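import Groth.Agent.AVAmpleLib.Divisor
import Groth.Agent.AVAmpleLib.CartierSection
import Groth.Agent.IntMultLib.Cartier
import Groth.Agent.MiscFlat6.InvDual
import Groth.Agent.AmpleThLib.Locus
import Groth.Agent.AmpleDevLib.Devissage
import Groth.Prelude.Def_MoreMor

/-!
# Semi-separated Noetherian schemes with factorial local rings have an ample family
-/

set_option autoImplicit false

universe u

open CategoryTheory CategoryTheory.Limits AlgebraicGeometry TopologicalSpace
open AmpleLib AmpleThLib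
open TwistLib (genSet)

noncomputable section

namespace AmpleFamDivLib

/-- An affine open containing a given affine open which is dense. -/
theorem exists_dense_affine {X : Scheme.{u}} [IsNoetherian X] {A : X.Opens} (hA : IsAffineOpen A) :
    ∃ U : X.Opens, IsAffineOpen U ∧ A ≤ U ∧ Dense (U : Set X) := by
  classical
  let C := irreducibleComponents ↥X
  have hCfin : C.Finite := NoetherianSpace.finite_irreducibleComponents
  haveI : Finite C := hCfin.to_subtype
  let η : C → X := fun c => IsIrreducible.genericPoint c.2.1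
  have hη : ∀ c : C, closure ({η c} : Set X) = c.1 := fun c =>
    IsIrreducible.closure_genericPoint c.2.1 (isClosed_of_mem_irreducibleComponents c.1 c.2)
  have hmax : ∀ c c' : C, η c ∈ c'.1 → c = c' := fun c c' h => by
    have h1 : c.1 ⊆ c'.1 := (hη c).symm.subset.trans
      ((isClosed_of_mem_irreducibleComponents c'.1 c'.2).closure_subset_iff.2 (Set.singleton_subset_iff.2 h))
    exact Subtype.ext (Set.Subset.antisymm h1 (c.2.2 c'.2.1 h1))
  let O : C → X.Opens := fun c =>
    ⟨(⋃ c' : {c' : C // c' ≠ c}, (c'.1.1 : Set X))ᶜ, (isClosed_iUnion_of_finite fun c' : {c' : C // c' ≠ c} =>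
      isClosed_of_mem_irreducibleComponents _ c'.1.2).isOpen_compl⟩
  have hηO : ∀ c, η c ∈ O c := fun c h => by
    obtain ⟨c', hc'⟩ := Set.mem_iUnion.1 h
    exact c'.2 (hmax c c'.1 hc').symm
  choose W hW hηW hWO using fun c => exists_isAffineOpen_mem_and_subset (hηO c)
  have hWc : ∀ c, ∀ x ∈ W c, x ∈ c.1 ∧ ∀ c' : C, x ∈ c'.1 → c' = c := by
    intro c x hx
    have h1 : ∀ c' : C, x ∈ c'.1 → c' = c := fun c' h' => by
      by_contra hne
      exact (hWO c hx) (Set.mem_iUnion.2 ⟨⟨c', hne⟩, h'⟩)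
    obtain ⟨D, hD, hxD⟩ := Set.mem_sUnion.1 ((sUnion_irreducibleComponents (X := ↥X)).ge (Set.mem_univ x))
    exact ⟨h1 ⟨D, hD⟩ hxD ▸ hxD, h1⟩
  let Wi : X.Opens := ⨆ c : {c : C // η c ∉ A}, W c.1
  have hWi : IsAffineOpen Wi := IsAffineOpen.iSup_of_disjoint (fun c => hW c.1) fun c c' hne => by
    rw [Function.onFun, ← Opens.coe_disjoint, Set.disjoint_left]
    exact fun x hx hx' => hne (Subtype.ext ((hWc c'.1 x hx').2 c.1 (hWc c.1 x hx).1))
  refine ⟨A ⊔ Wi, IsAffineOpen.sup_of_disjoint hA hWi ?_, le_sup_left, ?_⟩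
  · rw [← Opens.coe_disjoint, Set.disjoint_left]
    intro x hx hx'
    obtain ⟨c, hc⟩ := Opens.mem_iSup.1 hx'
    exact c.2 ((specializes_iff_mem_closure.2 ((hη c.1).ge (hWc c.1 x hc).1)).mem_open A.2 hx)
  · rw [dense_iff_closure_eq, Set.eq_univ_iff_forall]
    intro x
    obtain ⟨D, hD, hxD⟩ := Set.mem_sUnion.1 ((sUnion_irreducibleComponents (X := ↥X)).ge (Set.mem_univ x))
    refine closure_mono ?_ ((hη ⟨D, hD⟩).ge hxD)
    refine Set.singleton_subset_iff.2 ?_
    by_cases h : η ⟨D, hD⟩ ∈ A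
    · exact Or.inl h
    · exact Or.inr (Opens.mem_iSup.2 ⟨⟨⟨D, hD⟩, h⟩, hηW _⟩)

/-- Factorial local rings and affine intersections give an ample family. -/
theorem hasAmpleFamily_of_factorial {X : Scheme.{u}} [IsNoetherian X]
    (hΔ : ∀ V W : X.Opens, IsAffineOpen V → IsAffineOpen W → IsAffineOpen (V ⊓ W))
    (hufd : ∀ x : X, IsDomain (X.presheaf.stalk x) ∧ UniqueFactorizationMonoid (X.presheaf.stalk x)) :
    MoreMor.HasAmpleFamily X := by
  refine ⟨inferInstance, fun x => ?_⟩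
  obtain ⟨A, hA, hxA, -⟩ := exists_isAffineOpen_mem_and_subset (x := x) (U := ⊤) trivial
  obtain ⟨U, hU, hAU, hd⟩ := exists_dense_affine hA
  haveI := AVAmpleLib.isAffineHom_ι hΔ hU
  obtain ⟨D, hD, hsupp⟩ := AVAmpleLib.exists_effCartier_compl U hd fun y _ => hufd y
  have hJ := IntMultLib.isInvertible_idealMod D hD
  let K := MiscFlat6.dual (ClSub.idealMod D)
  have hK : PicF.IsInvertible K := MiscFlat6.dual_isInvertible hJ
  obtain ⟨eJ⟩ := MiscFlat6.nonempty_dualIso hJ
  have hinv : ClSub.IsInverseOf K (ClSub.idealMod D) := ⟨AmpleDevLib.tensComm _ _ ≪≫ eJ⟩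
  obtain ⟨σ, hσ⟩ := AVAmpleLib.exists_section hK hinv
  have hgen : genSet hK σ = U := Opens.ext (hσ.trans (by rw [hsupp, compl_compl]))
  refine ⟨K, 1, QCohLib.unitHom _ (pS σ 1), hK, le_rfl, ?_, ?_⟩ <;>
    rw [genLocus_unitHom (tensorPow_isInvertible hK 1), genSet_pS hK σ one_pos, hgen]
  · exact hAU hxA
  · exact hU

end AmpleFamDivLib

end
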